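import Cfsg.Agent.S12.DefsB

/-!
# The simple section `L / ⟨t⟩` has a Sylow 2-subgroup of type `M₂₂`
-/

set_option autoImplicit false

namespace Cfsg.Lib.S12

open Subgroup Cfsg.Lib.Trans Cfsg.Lib.Gold Cfsg.Lib.GHD Cfsg.Lib.MT2 Cfsg.Lib.Known.GTab

universe u

namespace MtP

/-- A section of `S0 → S0 / ⟨t⟩`. -/
def sec (y : GHD.T false true) : T :=
  tn (Nat.land (Nat.shiftRight 0x1d701d801d201dd01d401db01d101de0192019d019701980191019e0194019b0154015b0151015e015701580152015d011e0111011b0114011d01120118011700d800d700dd00d200db00d400de00d1009d009200980097009e0091009b0094005b0054005e005100580057005d00520011001e0014001b0012001d0017001801c901c601cc01c301ca01c501cf01c001890186018c0183018a0185018f018001490146014c0143014a0145014f014001090106010c0103010a0105010f010000c900c600cc00c300ca00c500cf00c000890086008c0083008a0085008f008000490046004c0043004a0045004f004000090006000c0003000a0005000f0000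
    (Nat.mul 16 y.1)) 65535)

theorem f1 : ∀ y, sec y ∈ S0 := by decide +kernel
theorem f2 : ∀ y y', sec (y * y') = sec y * sec y' ∨ sec (y * y') = sec y * sec y' * t := by
  decide +kernel
theorem f3 : ∀ y, sec y = 1 ∨ sec y = t → y = 1 := by decide +kernel
theorem f4 : ∀ x ∈ S0, ∃ y, x = sec y ∨ x = sec y * t := by decide +kernel
theorem tS : t ∈ S0 := by decide +kernel

variable {X Y : Type u} [Group X] [Group Y] {e : Em T X} {L : Subgroup X} {π : L →* Y}

/-- The map from `S0` to `L`. -/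
def io (h : LD e L) : S0 →* L := (e.φ.comp S0.subtype).codRestrict L fun x => h.comap.ge x.2

theorem eq_one (h : LD e L) (k : QL e L π) {x : S0} : π (io h x) = 1 ↔ x.1 = 1 ∨ x.1 = t := by
  rw [k.ker]
  refine ⟨fun a => (Sig2.mem_zpowers_of_mul_self (e.sq (by decide +kernel)) a).imp
    (map_eq_one_iff _ e.inj).1 (e.inj ·), ?_⟩
  change _ → e.φ x ∈ _
  rintro (a | a) <;> rw [a]
  exacts [map_one e.φ ▸ one_mem _, mem_zpowers _]

theorem mul_t (h : LD e L) (k : QL e L π) (x : S0) : π (io h (x * ⟨t, tS⟩)) = π (io h x) := by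
  rw [map_mul, map_mul, (eq_one h k (x := ⟨t, tS⟩)).2 (.inr rfl), mul_one]

theorem cases (h : LD e L) (k : QL e L π) (N : Subgroup L) [hN : N.Normal] : N ≤ π.ker ∨ N = ⊤ :=
  (h.simp (N.map L.subtype) (map_subtype_le N) (by
    have := le_normalizer_map (H := N) L.subtype
    rwa [normalizer_eq_top, ← MonoidHom.range_eq_map, range_subtype] at this)).imp
    (fun a x hx => (k.ker x).2 (a (mem_map_of_mem _ hx))) fun a =>
      map_injective L.subtype_injective (by rw [a, ← MonoidHom.range_eq_map, range_subtype])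

variable [Finite X]

/-- The embedding of the model of type `M₂₂`. -/
def em (h : LD e L) (k : QL e L π) : Em (GHD.T false true) Y where
  φ := MonoidHom.mk' (fun y => π (io h ⟨sec y, f1 y⟩)) fun y y' => by
    rw [← map_mul, ← map_mul]
    rcases f2 y y' with a | a
    · exact congrArg (π ∘ io h) (Subtype.ext a)
    · exact (congrArg (π ∘ io h) (Subtype.ext a)).trans (mul_t h k _)
  inj := (injective_iff_map_eq_one _).2 fun y a => f3 y ((eq_one h k).1 a)
  syl := by
    have : Fact (Nat.Prime 2) := ⟨Nat.prime_two⟩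
    have := h.normal
    have a := (e.syl.inf_normal_of_le (normalizer_eq_top L).ge le_top).subgroupOf_top.map π
    rw [map_top_of_surjective _ k.surj] at a
    convert a using 1
    ext y
    refine ⟨?_, ?_⟩
    · rintro ⟨y, rfl⟩
      exact mem_map_of_mem _ ⟨⟨_, rfl⟩, (io h _).2⟩
    · rintro ⟨⟨_, hx⟩, ⟨⟨x, rfl⟩, -⟩, rfl⟩
      have m : x ∈ S0 := h.comap.le hx
      obtain ⟨y, a | a⟩ := f4 x m
      · exact ⟨y, congrArg (π ∘ io h) (Subtype.ext a.symm : _ = (⟨x, m⟩ : S0))⟩
      · exact ⟨y, (mul_t h k _).symm.trans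
          (congrArg (π ∘ io h) (Subtype.ext a.symm : _ = (⟨x, m⟩ : S0)))⟩

theorem nc (h : LD e L) (k : QL e L π) : ¬ IsMulCommutative Y := fun _ => by
  obtain ⟨a, b, c⟩ := (by decide +kernel : ∃ a b : GHD.T false true, a * b ≠ b * a)
  exact c ((em h k).comm_iff.1 (mul_comm' _ _))

theorem hy (h : LD e L) (k : QL e L π) : Hy Y := by
  have : Nontrivial Y := not_subsingleton_iff_nontrivial.1 fun _ => nc h k ⟨⟨fun _ _ => Subsingleton.elim _ _⟩⟩
  refine ⟨⟨fun N _ => (cases h k (N.comap π)).imp (fun a => ?_) fun a => ?_⟩, nc h k⟩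
  · rw [← map_comap_eq_self_of_surjective k.surj N, Subgroup.map_eq_bot_iff]
    exact a
  · rw [← map_comap_eq_self_of_surjective k.surj N, a, map_top_of_surjective _ k.surj]

end MtP

open MtP in
theorem wMt : WMt.{u} := fun X _ _ e L Y _ _ π h k => by
  refine ⟨hy h k, ⟨em h k⟩, (cases h k _).resolve_left fun a => nc h k ⟨⟨fun x y => ?_⟩⟩⟩
  obtain ⟨x, rfl⟩ := k.surj x
  obtain ⟨y, rfl⟩ := k.surj y
  rw [← commutatorElement_eq_one_iff_mul_comm, ← map_commutatorElement]
  exact a (commutator_mem_commutator (mem_top x) (mem_top y))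

open MtP in
theorem wHq : WHq.{u} := fun X _ _ e L hc h => by
  have : (zpowers (io h ⟨t, tS⟩)).Normal := ⟨fun x hx g => by
    rwa [mem_center_iff.1 (zpowers_le.2 (mem_center_iff.2 fun g => Subtype.ext
      (mem_center_iff.1 hc.cen g)) hx) g, mul_inv_cancel_right]⟩
  have k : QL e L (QuotientGroup.mk' (zpowers (io h ⟨t, tS⟩))) :=
    ⟨QuotientGroup.mk'_surjective _, fun x => (QuotientGroup.eq_one_iff x).trans
      ⟨fun ⟨n, a⟩ => ⟨n, congrArg Subtype.val a⟩, fun ⟨n, a⟩ => ⟨n, Subtype.ext a⟩⟩⟩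
  have c : ∀ x : S0, x * x = 1 → ¬ (x.1 = 1 ∨ x.1 = t) → IsConj _ _ := fun x a b =>
    (hy h k).cj (em h k) _ (by rw [← map_mul, ← map_mul, a, map_one, map_one]) (mt (eq_one h k).1 b)
  obtain ⟨g, hg⟩ := isConj_iff.1 ((c ⟨tn 3, by decide +kernel⟩ (Subtype.ext (by decide +kernel))
    (by decide +kernel)).symm.trans
      (c ⟨a1, by decide +kernel⟩ (Subtype.ext (by decide +kernel)) (by decide +kernel)))
  obtain ⟨g, rfl⟩ := k.surj g
  rw [← map_inv, ← map_mul, ← map_mul, eq_comm, ← inv_mul_eq_one, ← map_inv, ← map_mul, k.ker] at hg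
  refine (Sig2.mem_zpowers_of_mul_self (e.sq (by decide +kernel)) hg).imp (fun a => ?_) fun a => ?_
  · exact isConj_iff.2 ⟨g, (inv_mul_eq_one.1 a).symm⟩
  · exact isConj_iff.2 ⟨g, (inv_mul_eq_iff_eq_mul.1 a).trans (map_mul e.φ a1 t).symm⟩

end Cfsg.Lib.S12
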