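import Cfsg.Agent.S12.Defs

/-!
# Simple groups with a Sylow 2-subgroup of type `A₁₂`: the normalizer of `F`
-/

set_option autoImplicit false

namespace Cfsg.Lib.S12

open Subgroup Cfsg.Lib.Trans Cfsg.Lib.Gold Cfsg.Lib.GHD Cfsg.Lib.Known Cfsg.Lib.Known.GTab Equiv

universe u

namespace S6W

/-- Conjugacy in the model. -/
abbrev SC (x y : T) : Prop := ∃ s, s * x * s⁻¹ = y

/-- `α` is a commutator of `y` with an element of `E`. -/
abbrev Hs (α y : T) : Prop := ∃ s ∈ EE, s * y * s⁻¹ = α * y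

/-- The mask describes three involutions and two classes of the model. -/
abbrev Mk (m : ℕ) (α α' β β' : T) : Prop := ∀ u ∈ FF,
  (bit m u.1 = true → u = a1 ∨ u = a2 ∨ u = a3 ∨ SC α u ∨ SC β u) ∧
    (¬ bit m u.1 = true → u = 1 ∨ u = z1 ∨ u = a2 * a3 ∨ u = a3 * a1 ∨ u = t ∨ SC α' u ∨ SC β' u)

/-- The elements `ff i j`, `i ≠ j`. -/
abbrev m00 : ℕ := 0x40100000000040100210000000000210000000000000000000000000000000000000000000084210001000000000420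
/-- A twisted mask. -/
abbrev m10 : ℕ := 0x40100000000040100210000000000210000000000000000000000000000000084210000000000000001000000000420
/-- A twisted mask. -/
abbrev m01 : ℕ := 0x802000000000802084000000000084000000000000000000000000000000000000000000000084210001000000000420
/-- A twisted mask. -/
abbrev m11 : ℕ := 0x802000000000802084000000000084000000000000000000000000000000000084210000000000000001000000000420

/-- `a ↦ p₄ a`, `c ↦ a₃ c`. -/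
def k1 (x : T) : T := tn (Nat.xor x.1 (Nat.xor (Nat.mul 48 (Nat.land (Nat.shiftRight x.1 6) 1))
  (Nat.mul 16 (Nat.land (Nat.shiftRight x.1 7) 1))))

/-- `b ↦ a₂ b`, `c ↦ z₁ c`. -/
def k2 (x : T) : T := tn (Nat.xor x.1 (Nat.xor (Nat.mul 15 (Nat.land (Nat.shiftRight x.1 6) 1))
  (Nat.mul (Nat.shiftRight 10 (Nat.land (Nat.shiftRight x.1 7) 1)) (Nat.shiftRight x.1 8))))

/-- The first twist. -/
def κ1 : T →* T := mkHom k1 (by decide +kernel) (by decide +kernel)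

/-- The second twist. -/
def κ2 : T →* T := mkHom k2 (by decide +kernel) (by decide +kernel)

/-- The numbers of the elements `ff i j`. -/
def LX : List ℕ := [5, 10, 48, 64, 69, 74, 79, 256, 261, 304, 309, 320, 330, 368, 378]

/-- The support of the element `ff i j` with a given number. -/
def sp (y : ℕ) : ℕ := Nat.land (Nat.shiftRight 0x2800000000000002400000000000000000000000000000000000000000000000000000001800000000000001400000000000000088000002100000000000000000000000000000000000000000000000000000000000000048000001100000000000000000000000000000000000000000000000000000000000000000000000000000000000000000000000000000000000000000000000000000000000000000000000000000000000000000000000000000000000000000000000000000000000000000000000000000000000000000000000000000000000000000000000028000000900000018000000500000000000000000000003000000000000000000000000000000000000000000000000000000000c0000000c0000000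 (Nat.mul 6 y)) 63

theorem SC_eq_1' : type_of% @SC.eq_1 := @SC.eq_1
theorem Hs_eq_1' : type_of% @Hs.eq_1 := @Hs.eq_1
theorem Mk_eq_1' : type_of% @Mk.eq_1 := @Mk.eq_1
theorem m00_eq_1' : type_of% @m00.eq_1 := @m00.eq_1
theorem m10_eq_1' : type_of% @m10.eq_1 := @m10.eq_1
theorem m01_eq_1' : type_of% @m01.eq_1 := @m01.eq_1
theorem m11_eq_1' : type_of% @m11.eq_1 := @m11.eq_1
theorem k1_eq_1' : type_of% @k1.eq_1 := @k1.eq_1
theorem k2_eq_1' : type_of% @k2.eq_1 := @k2.eq_1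
theorem κ1_eq_1' : type_of% @κ1.eq_1 := @κ1.eq_1
theorem κ2_eq_1' : type_of% @κ2.eq_1 := @κ2.eq_1
theorem LX_eq_1' : type_of% @LX.eq_1 := @LX.eq_1
theorem sp_eq_1' : type_of% @sp.eq_1 := @sp.eq_1

theorem star : ∀ y1 ∈ LX, ∀ y2 ∈ LX, bit m00 (Nat.xor y1 y2) = true → ∀ y3 ∈ LX,
    (bit m00 (Nat.xor y1 y3) = true ∧ bit m00 (Nat.xor y2 y3) = true) → ∀ y4 ∈ LX,
    (bit m00 (Nat.xor y1 y4) = true ∧ bit m00 (Nat.xor y2 y4) = true ∧
      bit m00 (Nat.xor y3 y4) = true) →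
    ∀ y5 ∈ LX, (bit m00 (Nat.xor y1 y5) = true ∧ bit m00 (Nat.xor y2 y5) = true ∧
      bit m00 (Nat.xor y3 y5) = true ∧ bit m00 (Nat.xor y4 y5) = true) →
    ∃ m < 6, bit (sp y1) m = true ∧ bit (sp y2) m = true ∧ bit (sp y3) m = true ∧
      bit (sp y4) m = true ∧ bit (sp y5) m = true := by decide +kernel

theorem sp_ff : ∀ y ∈ FF, ∀ m : Fin 6, bit (sp y.1) m.1 = true → ∃ n, y = ff m n := by
  decide +kernel
theorem mul_xor : ∀ x ∈ FF, ∀ y ∈ FF, (x * y).1 = Nat.xor x.1 y.1 := by decide +kernel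
theorem ff_mul : ∀ m i j, ff m i * ff m j = ff i j := by decide +kernel
theorem ff_one : ∀ i j, ff i j = 1 ↔ i = j := by decide +kernel
theorem ff_mem : ∀ i j, ff i j ∈ FF := by decide +kernel
theorem ff_bit : ∀ i j, i ≠ j → bit m00 (ff i j).1 = true := by decide +kernel

variable {G : Type u} [Group G] {e : Em T G} {g k : G}

/-- The class of `a₃` in `F` is given by a mask, and `N(F)` is transitive on it. -/
structure Dt (e : Em T G) (m : ℕ) : Prop where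
  cl : ∀ u ∈ FF, e.Cj a3 u ↔ bit m u.1 = true
  tr : ∀ u ∈ FF, e.Cj a3 u → ∃ n, Into e n FF FF ∧ e.Mv n a3 u

theorem Dt.twist {m m' : ℕ} (D : Dt e m) (κ : T →* T) (h : ∀ x, κ (κ x) = x) (h3 : κ a3 = a3)
    (hF : ∀ x ∈ FF, κ x ∈ FF ∧ bit m (κ x).1 = bit m' x.1) : Dt (e.comp κ h) m' := by
  have k : ∀ u, (e.comp κ h).Cj a3 u ↔ e.Cj a3 (κ u) := fun u => by
    rw [Em.Cj, Em.comp_apply, h3]; rfl
  refine ⟨fun u hu => by rw [k, D.cl _ (hF u hu).1, (hF u hu).2], fun u hu hc => ?_⟩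
  obtain ⟨n, h1, h2⟩ := D.tr _ (hF u hu).1 ((k u).1 hc)
  refine ⟨n, fun x hx => ?_, by rw [Em.Mv, Em.comp_apply, h3]; exact h2⟩
  obtain ⟨y, hy, h4⟩ := h1 _ (hF x hx).1
  exact ⟨κ y, (hF y hy).1, by rw [Em.Mv, Em.comp_apply, Em.comp_apply, h]; exact h4⟩

theorem Dt.act (D : Dt e m00) (hg : Into e g FF FF) : ∃ π, ActF e g π := by
  choose y hy hm using fun j => hg (ff 0 j) (ff_mem 0 j)
  have k : ∀ {x y}, x ∈ FF → y ∈ FF → e.Mv g x y → bit m00 x.1 = true → bit m00 y.1 = true :=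
    fun hx hy h b => (D.cl _ hy).1 (((D.cl _ hx).2 b).trans h.cj)
  have h1 : ∀ j, 0 ≠ j → (y j).1 ∈ LX := fun j hj =>
    (by decide +kernel : ∀ x : T, bit m00 x.1 = true → x.1 ∈ LX) _
      (k (ff_mem 0 j) (hy j) (hm j) (ff_bit 0 j hj))
  have h2 : ∀ i j, i ≠ j → bit m00 (Nat.xor (y i).1 (y j).1) = true := fun i j h =>
    mul_xor _ (hy i) _ (hy j) ▸
      k (ff_mem i j) (mul_mem (hy i) (hy j)) (ff_mul 0 i j ▸ (hm i).mul (hm j)) (ff_bit i j h)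
  obtain ⟨m', hm', k1, k2, k3, k4, k5⟩ := star _ (h1 1 (by decide)) _ (h1 2 (by decide))
    (h2 _ _ (by decide)) _ (h1 3 (by decide)) ⟨h2 _ _ (by decide), h2 _ _ (by decide)⟩
    _ (h1 4 (by decide)) ⟨h2 _ _ (by decide), h2 _ _ (by decide), h2 _ _ (by decide)⟩
    _ (h1 5 (by decide)) ⟨h2 _ _ (by decide), h2 _ _ (by decide), h2 _ _ (by decide),
      h2 _ _ (by decide)⟩
  let m : Fin 6 := ⟨m', hm'⟩
  have k0 : ∃ n, y 0 = ff m n := ⟨m, ((hm 0).uniq ((ff_one 0 0).2 rfl ▸ e.mv_one g)).trans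
    ((ff_one m m).2 rfl).symm⟩
  have h3 : ∀ j, ∃ n, y j = ff m n := fun j => by
    fin_cases j
    exacts [k0, sp_ff _ (hy _) m k1, sp_ff _ (hy _) m k2, sp_ff _ (hy _) m k3, sp_ff _ (hy _) m k4,
      sp_ff _ (hy _) m k5]
  choose f hf using h3
  have h4 : ∀ i j, e.Mv g (ff i j) (ff (f i) (f j)) := fun i j => by
    rw [← ff_mul 0 i j, ← ff_mul m (f i), ← hf, ← hf]
    exact (hm i).mul (hm j)
  refine ⟨Equiv.ofBijective f (Finite.injective_iff_bijective.1 fun i j h => ?_), h4⟩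
  exact (ff_one i j).1 ((h4 i j).uniq' ((ff_one _ _).2 h ▸ e.mv_one g))

theorem Dt.s6 (D : Dt e m00) : S6 e := by
  refine ⟨fun g => D.act, fun π => ?_⟩
  induction π using Perm.swap_induction_on with
  | one => exact ⟨1, fun i j => by simp [Em.Mv]⟩
  | swap_mul π i j hij ih =>
    obtain ⟨g, hg⟩ := ih
    obtain ⟨n, h1, h2⟩ := D.tr _ (ff_mem i j) ((D.cl _ (ff_mem i j)).2 (ff_bit i j hij))
    obtain ⟨ν, hν⟩ := D.act h1
    have h3 : swap (ν 4) (ν 5) = swap i j := by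
      rcases (by decide +kernel : ∀ i j : Fin 6, i ≠ j → ∀ k l, ff k l = ff i j →
        (k = i ∧ l = j) ∨ (k = j ∧ l = i)) i j hij _ _ ((hν 4 5).uniq h2) with h | h <;>
        rw [h.1, h.2]
      exact swap_comm _ _
    refine ⟨n * (e.φ (pp 4) * n⁻¹) * g, fun a b => (hg a b).comp ?_⟩
    rw [← h3, swap_apply_apply]
    have h4 : ∀ a b, e.Mv n⁻¹ (ff a b) (ff (ν⁻¹ a) (ν⁻¹ b)) := fun a b => by
      simpa using (hν (ν⁻¹ a) (ν⁻¹ b)).inv
    exact ((h4 _ _).comp (e.mv_of ((by decide +kernel : ∀ a b, pp 4 * ff a b * (pp 4)⁻¹ =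
      ff (swap 4 5 a) (swap 4 5 b)) _ _))).comp (hν _ _)

theorem tr (B : Bas e) {u : T} (hu : u ∈ FF) (h : e.Cj a3 u) :
    ∃ n, Into e n FF FF ∧ e.Mv n a3 u := by
  obtain ⟨g, hg⟩ := h.mv
  obtain ⟨n, h1, h2⟩ := B.ctlF {a3} g (by
    rintro _ rfl; exact ⟨by decide +kernel, u, hu, hg⟩)
  exact ⟨n, h1, h2 _ rfl u hg⟩

theorem mk_dt (B : Bas e) (R : Rot e g) {α α' β β' : T} (h1 : e.Cj a3 α) (h2 : ¬ e.Cj a3 α')
    (h3 : e.Cj a3 β) (h4 : ¬ e.Cj a3 β') {m : ℕ} (hm : Mk m α α' β β') : Dt e m := by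
  have z : e.Mv g z1 (a2 * a3) := (by decide +kernel : a1 * a2 = z1) ▸ R.m1.mul R.m2
  refine ⟨fun u hu => ⟨fun h => by_contra fun n => ?_, fun h => ?_⟩, fun u => tr B⟩
  · rcases (hm u hu).2 n with rfl | rfl | rfl | rfl | rfl | ⟨s, k⟩ | ⟨s, k⟩
    · exact h.ne (by decide +kernel) rfl
    · exact B.zz.1 h.symm
    · exact B.zz.1 (z.cj.trans h.symm)
    · exact B.zz.1 ((z.comp (R.m2.mul R.m3)).cj.trans h.symm)
    · exact B.zz.2.2 h
    · exact h2 (h.trans (e.cj_of k).symm)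
    · exact h4 (h.trans (e.cj_of k).symm)
  · rcases (hm u hu).1 h with rfl | rfl | rfl | ⟨s, k⟩ | ⟨s, k⟩
    exacts [R.m3.cj, R.m2.cj.symm, e.cj_refl _, h1.trans (e.cj_of k), h3.trans (e.cj_of k)]

theorem hs (R : Rot e g) {α α' y y' : T} (h1 : e.Mv g α α') (h2 : e.Mv g y y') (h : Hs α y) :
    Hs α' y' := by
  obtain ⟨s, hs, k⟩ := h
  obtain ⟨s', hs', k'⟩ := R.nE s hs
  exact ⟨s', hs', ((k'.mul h2).mul k'.inv').uniq (k ▸ h1.mul h2)⟩

theorem out : ∀ u ∈ FF, u ∉ II → (Hs a1 u ∧ Hs a2 u) ∨ (Hs a2 u ∧ Hs a3 u) ∨ (Hs a3 u ∧ Hs a1 u) := by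
  decide +kernel
theorem clc : ∀ u ∈ FF, Hs a1 u → Hs a2 u → SC c u ∨ SC (t * c) u := by decide +kernel
theorem cld : ∀ u ∈ FF, Hs a2 u → Hs a3 u → SC b u ∨ SC (t * b) u := by decide +kernel
theorem clb : ∀ u ∈ FF, Hs a3 u → Hs a1 u → SC b u ∨ SC (t * b) u := by decide +kernel

theorem not_all (B : Bas e) {u : T} (hu : u ∈ FF) (hI : u ∉ II)
    (h : ∀ u ∈ FF, u ∉ II → e.Cj a3 u) : False := by
  obtain ⟨n, h1, h2⟩ := tr B hu (h u hu hI)
  obtain ⟨y, hy, k⟩ := h1 z1 (by decide +kernel)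
  obtain ⟨y', hy', k'⟩ := h1 t (by decide +kernel)
  refine hI (((by decide +kernel : z1 * t = a3) ▸ k.mul k').uniq h2 ▸ mul_mem ?_ ?_)
  · exact by_contra fun n => B.zz.1 (k.cj.trans (h y hy n).symm)
  · exact by_contra fun n => B.zz.2.2 ((h y' hy' n).trans k'.cj.symm)

end S6W

open S6W in
theorem wS6 : WS6.{u} := by
  intro G _ _ e g B R ⟨u, hu, hI, hc⟩
  have s1 : ∀ u ∈ FF, Hs a1 u ∧ Hs a2 u → ∃ v ∈ FF, e.Cj u v ∧ Hs a2 v ∧ Hs a3 v := fun u hu h =>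
    (R.nF u hu).imp fun v k => ⟨k.1, k.2.cj, hs R R.m1 k.2 h.1, hs R R.m2 k.2 h.2⟩
  have s2 : ∀ u ∈ FF, Hs a2 u ∧ Hs a3 u → ∃ v ∈ FF, e.Cj u v ∧ Hs a3 v ∧ Hs a1 v := fun u hu h =>
    (R.nF u hu).imp fun v k => ⟨k.1, k.2.cj, hs R R.m2 k.2 h.1, hs R R.m3 k.2 h.2⟩
  have s3 : ∀ u ∈ FF, Hs a3 u ∧ Hs a1 u → ∃ v ∈ FF, e.Cj u v ∧ Hs a1 v ∧ Hs a2 v := fun u hu h =>
    (R.nF u hu).imp fun v k => ⟨k.1, k.2.cj, hs R R.m3 k.2 h.1, hs R R.m1 k.2 h.2⟩
  have x1 : ∀ u ∈ FF, u ∉ II → ∃ v ∈ FF, e.Cj u v ∧ Hs a1 v ∧ Hs a2 v := fun u hu hI => by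
    rcases out u hu hI with h | h | h
    · exact ⟨u, hu, e.cj_refl u, h⟩
    · obtain ⟨v, hv, k, h⟩ := s2 u hu h
      obtain ⟨w, hw, k', h⟩ := s3 v hv h
      exact ⟨w, hw, k.trans k', h⟩
    · exact s3 u hu h
  have y1 : ∀ u ∈ FF, u ∉ II → e.Cj c u ∨ e.Cj (t * c) u := fun u hu hI => by
    obtain ⟨v, hv, k, h⟩ := x1 u hu hI
    exact (clc v hv h.1 h.2).imp (fun ⟨_, s⟩ => (e.cj_of s).trans k.symm)
      fun ⟨_, s⟩ => (e.cj_of s).trans k.symm
  have y2 : ∀ u ∈ FF, u ∉ II → e.Cj b u ∨ e.Cj (t * b) u := fun u hu hI => by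
    obtain ⟨v, hv, k, h⟩ := x1 u hu hI
    obtain ⟨w, hw, k', h⟩ := s1 v hv h
    exact (cld w hw h.1 h.2).imp (fun ⟨_, s⟩ => (e.cj_of s).trans (k.trans k').symm)
      fun ⟨_, s⟩ => (e.cj_of s).trans (k.trans k').symm
  have n1 : e.Cj a3 c → ¬ e.Cj a3 (t * c) := fun h h' =>
    not_all B hu hI fun v hv hI => (y1 v hv hI).elim h.trans h'.trans
  have n2 : e.Cj a3 b → ¬ e.Cj a3 (t * b) := fun h h' =>
    not_all B hu hI fun v hv hI => (y2 v hv hI).elim h.trans h'.trans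
  have i1 : ∀ x, κ1 (κ1 x) = x := (by decide +kernel : ∀ x, k1 (k1 x) = x)
  have i2 : ∀ x, κ2 (κ2 x) = x := (by decide +kernel : ∀ x, k2 (k2 x) = x)
  have j1 : κ1 a3 = a3 := (by decide +kernel : k1 a3 = a3)
  have j2 : κ2 a3 = a3 := (by decide +kernel : k2 a3 = a3)
  have t2 : ∀ e : Em T G, Dt e m01 → ∃ e' : Em T G, S6 e' := fun e D =>
    ⟨_, (D.twist κ2 i2 j2 (by decide +kernel : ∀ x ∈ FF, k2 x ∈ FF ∧
      bit m01 (k2 x).1 = bit m00 x.1)).s6⟩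
  rcases y1 u hu hI with h1 | h1 <;> rcases y2 u hu hI with h2 | h2 <;>
    replace h1 := hc.trans h1.symm <;> replace h2 := hc.trans h2.symm
  · exact ⟨e, (mk_dt B R h1 (n1 h1) h2 (n2 h2) (by decide +kernel)).s6⟩
  · exact t2 e (mk_dt B R h1 (n1 h1) h2 (n2 · h2) (by decide +kernel))
  · exact ⟨_, ((mk_dt B R h1 (n1 · h1) h2 (n2 h2) (m := m10) (by decide +kernel)).twist κ1 i1 j1
      (by decide +kernel : ∀ x ∈ FF, k1 x ∈ FF ∧ bit m10 (k1 x).1 = bit m00 x.1)).s6⟩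
  · exact t2 _ ((mk_dt B R h1 (n1 · h1) h2 (n2 · h2) (m := m11) (by decide +kernel)).twist κ1 i1 j1
      (by decide +kernel : ∀ x ∈ FF, k1 x ∈ FF ∧ bit m11 (k1 x).1 = bit m01 x.1))

end Cfsg.Lib.S12
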