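import Cfsg.Agent.GHD.Defs

/-!
# The Sylow 2-subgroup `T = 2⁶ : D₈` of `A₁₂`

Number `e + 64 (i + 2 j + 4 l)` is `p^e c^i a^j b^l`; the bits of `e < 64` are the exponents of
`p₀, …, p₅`, and `c = (0 2)(1 3)`, `a = (0 1)(2 3)`, `b = (0 2)(4 5)` permute the `pᵢ`.
-/

set_option autoImplicit false

namespace Cfsg.Lib.S12

open Subgroup Cfsg.Lib.Known Cfsg.Lib.Known.GTab Cfsg.Lib.GHD

/-- Table: the action of `D₈` on `2⁶`. -/
def acT : ℕ := 0x3f3d3b39373533313e3c3a38363432301f1d1b19171513111e1c1a18161412102f2d2b29272523212e2c2a28262422200f0d0b09070503010e0c0a08060402003f373e363d353c343b333a32393138301f171e161d151c141b131a12191118102f272e262d252c242b232a22292128200f070e060d050c040b030a02090108003f3e37363b3a33323d3c3534393831301f1e17161b1a13121d1c1514191811102f2e27262b2a23222d2c2524292821200f0e07060b0a03020d0c0504090801003f3b3d393e3a3c3837333531363234301f1b1d191e1a1c1817131511161214102f2b2d292e2a2c2827232521262224200f0b0d090e0a0c0807030501060204003f373b333d3539313e363a323c3438302f272b232d2529212e262a222c2428201f171b131d1519111e161a121c1418100f070b030d0509010e060a020c0408003f3d3e3c373536343b393a38333132302f2d2e2c272526242b292a28232122201f1d1e1c171516141b191a18131112100f0d0e0c070506040b090a08030102003f3b37333e3a36323d3935313c3834302f2b27232e2a26222d2925212c2824201f1b17131e1a16121d1915111c1814100f0b07030e0a06020d0905010c0804003f3e3d3c3b3a393837363534333231302f2e2d2c2b2a292827262524232221201f1e1d1c1b1a191817161514131211100f0e0d0c0b0a09080706050403020100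

/-- Table: the multiplication of `D₈`. -/
def muT : ℕ := 0x1000203050406070001030204050706030200010706040502030100060705040405060700010203050407060100030206070405020300010706050403020100

/-- Table: the inversion of `D₈`. -/
def ivT : ℕ := 0x607050403020100

/-- Table: the elements `ff i j`. -/
def ftT : ℕ := 0x30017a01700135013000300000014a014001050100017a014a0000000a004f004a01700140000a00000045004001350105004f00450000000501300100004a004000050000

/-- The action of `D₈` on `2⁶`. -/
def ac (k e : ℕ) : ℕ := lk acT (Nat.add (Nat.mul 64 k) e)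

/-- The multiplication of `D₈`. -/
def md (k l : ℕ) : ℕ := lk muT (Nat.add (Nat.mul 8 k) l)

/-- The table of the model. -/
def tab : GTab where
  n := 512
  mu i j := Nat.add (Nat.xor (Nat.mod i 64) (ac (Nat.div i 64) (Nat.mod j 64)))
    (Nat.mul 64 (md (Nat.div i 64) (Nat.div j 64)))
  iv i := Nat.add (ac (lk ivT (Nat.div i 64)) (Nat.mod i 64)) (Nat.mul 64 (lk ivT (Nat.div i 64)))

theorem ac_lt : ∀ k < 8, ∀ e < 64, ac k e < 64 := by decide +kernel
theorem md_lt : ∀ k < 8, ∀ l < 8, md k l < 8 := by decide +kernel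
theorem ac_xor : ∀ k < 8, ∀ e < 64, ∀ f < 64, ac k (e ^^^ f) = ac k e ^^^ ac k f := by
  decide +kernel
theorem ac_md : ∀ k < 8, ∀ l < 8, ∀ e < 64, ac (md k l) e = ac k (ac l e) := by decide +kernel
theorem md_assoc : ∀ k < 8, ∀ l < 8, ∀ m < 8, md (md k l) m = md k (md l m) := by decide +kernel

theorem mu_eq (i j : ℕ) : tab.mu i j = (i % 64 ^^^ ac (i / 64) (j % 64)) +
    64 * md (i / 64) (j / 64) := rfl

theorem lo_lt {i j : ℕ} (hi : i < 512) : i % 64 ^^^ ac (i / 64) (j % 64) < 64 :=
  Nat.xor_lt_two_pow (n := 6) (Nat.mod_lt _ (by decide))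
    (ac_lt _ (by omega) _ (Nat.mod_lt _ (by decide)))

instance ok : tab.Ok where
  pos := by decide
  mu_lt i hi j hj := by
    have hi : i < 512 := hi
    have hj : j < 512 := hj
    have h1 := lo_lt (j := j) hi
    have h2 := md_lt (i / 64) (by omega) (j / 64) (by omega)
    rw [mu_eq]; show _ < 512; omega
  iv_lt := by decide +kernel
  assoc i hi j hj k hk := by
    have hi : i < 512 := hi
    have hj : j < 512 := hj
    have hk : k < 512 := hk
    have h1 := lo_lt (j := j) hi
    have h2 := lo_lt (j := k) hj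
    have m : ∀ x y : ℕ, x < 64 → (x + 64 * y) % 64 = x ∧ (x + 64 * y) / 64 = y := by omega
    have i8 : i / 64 < 8 := by omega
    have j8 : j / 64 < 8 := by omega
    have k8 : k / 64 < 8 := by omega
    have l : ∀ x : ℕ, x % 64 < 64 := fun x => Nat.mod_lt _ (by decide)
    rw [mu_eq (tab.mu i j), mu_eq i (tab.mu j k), mu_eq i j, mu_eq j k, (m _ _ h1).1, (m _ _ h1).2,
      (m _ _ h2).1, (m _ _ h2).2, md_assoc _ i8 _ j8 _ k8, ac_md _ i8 _ j8 _ (l k),
      ac_xor _ i8 _ (l j) _ (ac_lt _ j8 _ (l k)), Nat.xor_assoc]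
  zero_mu := by decide +kernel
  iv_mu := by decide +kernel

/-- The model. -/
abbrev T : Type := tab.El

theorem card_T : Nat.card T = 512 := card_El
theorem two_T : IsPGroup 2 T := IsPGroup.of_card (n := 9) card_T

/-- The element with a given number. -/
def tn (i : ℕ) : T := ⟨Nat.mod i 512, Nat.mod_lt _ (by decide)⟩

/-- `pᵢ`. -/
def pp (i : Fin 6) : T := tn (Nat.pow 2 i.1)
/-- The product of the `pᵢ`, `i ≠ j`. -/
def tt (j : Fin 7) : T := tn (Nat.xor 63 (Nat.mod (Nat.pow 2 j.1) 64))
/-- The elements of `F`, read as the even subsets of six points: `ff i j` is `{i, j}`;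
`a₁ = {0,1}`, `a₂ = {2,3}`, `a₃ = {4,5}`, `c = {0,2}`, `b = {0,4}`. -/
def ff (i j : Fin 6) : T :=
  tn (Nat.land (Nat.shiftRight ftT (Nat.mul 16 (Nat.add (Nat.mul 6 i.1) j.1))) 65535)
/-- `p₀ p₂`. -/
def a1 : T := tn 5
/-- `p₁ p₃`. -/
def a2 : T := tn 10
/-- `p₄ p₅`, central. -/
def a3 : T := tn 48
/-- `p₀ p₁ p₂ p₃`, central. -/
def z1 : T := tn 15
/-- `p₀ ⋯ p₅`, central. -/
def t : T := tn 63
/-- `(0 2)(1 3)`. -/
def c : T := tn 64
/-- `(0 1)(2 3)`. -/
def a : T := tn 128
/-- `(0 2)(4 5)`. -/
def b : T := tn 256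

/-- The subgroup given by a mask. -/
def ms (m : ℕ) (h : bit m 0 = true ∧ ∀ a : T, bit m a.1 = true → bit m (a⁻¹).1 = true ∧
    ∀ b : T, bit m b.1 = true → bit m (a * b).1 = true) : Subgroup T :=
  tab.msub m h.1 h.2

instance {m : ℕ} {h} : DecidablePred (· ∈ ms m h) := fun _ => decidable_of_iff' _ mem_msub

theorem card_ms {m : ℕ} {h} : Nat.card (ms m h) = cnt fun a : T => bit m a.1 = true :=
  card_eq_cnt_of_mask fun _ => mem_msub

/-- `⟨p₀, …, p₅⟩`; order 64. -/
abbrev EE : Subgroup T := ms 0xffffffffffffffff (by decide +kernel)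
/-- `⟨a₁, a₂, a₃⟩ = E ∩ F`; order 8. -/
abbrev II : Subgroup T := ms 0x8421000000008421 (by decide +kernel)
/-- `⟨a₁, a₂, a₃, b, c⟩`; order 32. -/
abbrev FF : Subgroup T := ms 0x842100000000842184210000000084210000000000000000000000000000000084210000000084218421000000008421 (by decide +kernel)
/-- `⟨p₄, p₅⟩`; order 4. -/
abbrev V3 : Subgroup T := ms 0x1000100010001 (by decide +kernel)
/-- `⟨p₄, p₅, z₁⟩`; order 8. -/
abbrev Z3 : Subgroup T := ms 0x8001800180018001 (by decide +kernel)
/-- `⟨p₀, p₂⟩`; order 4. -/
abbrev V1 : Subgroup T := ms 0x33 (by decide +kernel)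
/-- `⟨p₄, p₅, z₁, a, c⟩`; order 32. -/
abbrev F1 : Subgroup T := ms 0x8001800180018001800180018001800180018001800180018001800180018001 (by decide +kernel)
/-- The conjugate of `F1` by `p₀`; order 32. -/
abbrev F2 : Subgroup T := ms 0x240024002400240100810081008100804200420042004208001800180018001 (by decide +kernel)
/-- The elements of even weight in `E`; order 32. -/
abbrev E0 : Subgroup T := ms 0x9669699669969669 (by decide +kernel)
/-- `⟨E0, a, b⟩`; order 256. -/
abbrev S0 : Subgroup T := ms 0x96696996699696699669699669969669966969966996966996696996699696699669699669969669966969966996966996696996699696699669699669969669 (by decide +kernel)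
/-- The elements of `E` of even weight on `0, …, 3`; order 32. -/
abbrev E2 : Subgroup T := ms 0x9669966996699669 (by decide +kernel)
/-- `⟨E2, a, c⟩`; order 128. -/
abbrev RR : Subgroup T := ms 0x9669966996699669966996699669966996699669966996699669966996699669 (by decide +kernel)
/-- `⟨E, b, c⟩`; order 256. -/
abbrev EF : Subgroup T := ms 0xffffffffffffffffffffffffffffffff00000000000000000000000000000000ffffffffffffffffffffffffffffffff (by decide +kernel)
/-- `⟨E, a, c⟩`; order 256. -/
abbrev EV : Subgroup T := ms 0xffffffffffffffffffffffffffffffffffffffffffffffffffffffffffffffff (by decide +kernel)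
/-- `⟨E2, a, b⟩`; order 256. -/
abbrev P2 : Subgroup T := ms 0x96699669966996699669966996699669966996699669966996699669966996699669966996699669966996699669966996699669966996699669966996699669 (by decide +kernel)
/-- `⟨p₀, …, p₃, a₃⟩`; order 32. -/
abbrev B45 : Subgroup T := ms 0xffff00000000ffff (by decide +kernel)
/-- `⟨p₀p₁, p₁p₂, p₂p₃, a, c⟩`, extraspecial of order 32; order 32. -/
abbrev QQ : Subgroup T := ms 0x9669000000000000966900000000000096690000000000009669 (by decide +kernel)
/-- `⟨Q, t⟩`; order 64. -/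
abbrev R0 : Subgroup T := ms 0x9669000000009669966900000000966996690000000096699669000000009669 (by decide +kernel)
/-- `⟨a₁, a₂, a₃, c⟩`; order 16. -/
abbrev F0 : Subgroup T := ms 0x84210000000084218421000000008421 (by decide +kernel)
/-- `C_E(c)⟨c⟩`; order 32. -/
abbrev Ac : Subgroup T := ms 0x84218421842184218421842184218421 (by decide +kernel)
/-- `C_E(b)⟨b⟩`; order 32. -/
abbrev Ab : Subgroup T := ms 0xa5a500000000a5a5000000000000000000000000000000000000000000000000a5a500000000a5a5 (by decide +kernel)
/-- `C_E(bc)⟨bc⟩`; order 32. -/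
abbrev Ab2 : Subgroup T := ms 0xcc3300000000cc330000000000000000000000000000000000000000000000000000000000000000cc3300000000cc33 (by decide +kernel)
/-- `C_E(a)⟨a⟩`; order 32. -/
abbrev Aa : Subgroup T := ms 0x900990099009900900000000000000009009900990099009 (by decide +kernel)
/-- `C_E(ac)⟨ac⟩`; order 32. -/
abbrev Aa2 : Subgroup T := ms 0x8241824182418241000000000000000000000000000000008241824182418241 (by decide +kernel)

theorem card_EE : Nat.card EE = 64 := card_ms.trans (by decide +kernel)
theorem card_II : Nat.card II = 8 := card_ms.trans (by decide +kernel)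
theorem card_FF : Nat.card FF = 32 := card_ms.trans (by decide +kernel)
theorem card_V3 : Nat.card V3 = 4 := card_ms.trans (by decide +kernel)
theorem card_Z3 : Nat.card Z3 = 8 := card_ms.trans (by decide +kernel)
theorem card_V1 : Nat.card V1 = 4 := card_ms.trans (by decide +kernel)
theorem card_F1 : Nat.card F1 = 32 := card_ms.trans (by decide +kernel)
theorem card_F2 : Nat.card F2 = 32 := card_ms.trans (by decide +kernel)
theorem card_E0 : Nat.card E0 = 32 := card_ms.trans (by decide +kernel)
theorem card_S0 : Nat.card S0 = 256 := card_ms.trans (by decide +kernel)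
theorem card_E2 : Nat.card E2 = 32 := card_ms.trans (by decide +kernel)
theorem card_RR : Nat.card RR = 128 := card_ms.trans (by decide +kernel)
theorem card_EF : Nat.card EF = 256 := card_ms.trans (by decide +kernel)
theorem card_EV : Nat.card EV = 256 := card_ms.trans (by decide +kernel)
theorem card_P2 : Nat.card P2 = 256 := card_ms.trans (by decide +kernel)
theorem card_B45 : Nat.card B45 = 32 := card_ms.trans (by decide +kernel)
theorem card_QQ : Nat.card QQ = 32 := card_ms.trans (by decide +kernel)
theorem card_R0 : Nat.card R0 = 64 := card_ms.trans (by decide +kernel)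
theorem card_F0 : Nat.card F0 = 16 := card_ms.trans (by decide +kernel)
theorem card_Ac : Nat.card Ac = 32 := card_ms.trans (by decide +kernel)
theorem card_Ab : Nat.card Ab = 32 := card_ms.trans (by decide +kernel)
theorem card_Ab2 : Nat.card Ab2 = 32 := card_ms.trans (by decide +kernel)
theorem card_Aa : Nat.card Aa = 32 := card_ms.trans (by decide +kernel)
theorem card_Aa2 : Nat.card Aa2 = 32 := card_ms.trans (by decide +kernel)

theorem t_comm : ∀ x : T, x * t = t * x := by decide +kernel
theorem z1_comm : ∀ x : T, x * z1 = z1 * x := by decide +kernel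
theorem a3_comm : ∀ x : T, x * a3 = a3 * x := by decide +kernel

theorem gen {H : Subgroup T} (h0 : pp 0 ∈ H) (h4 : pp 4 ∈ H) (ha : a ∈ H) (hb : b ∈ H) (x : T) :
    x ∈ H :=
  clos_sound H [1, 16, 128, 256] (by
    simp only [List.forall_mem_cons, List.not_mem_nil, false_imp_iff, implies_true, and_true]
    exact ⟨⟨by decide, h0⟩, ⟨by decide, h4⟩, ⟨by decide, ha⟩, by decide, hb⟩) x
    (by revert x; decide +kernel)

/-- A subgroup containing the listed elements contains everything they generate. -/
theorem gen_le {H L : Subgroup T} (l : List ℕ) (hl : ∀ g ∈ l, g < 512 ∧ tn g ∈ H)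
    (hL : ∀ x ∈ L, bit (tab.clos l) x.1 = true) : L ≤ H := fun x hx =>
  clos_sound H l (fun g hg => ⟨(hl g hg).1, by
    rw [show tab.el g = tn g from El.ext ((val_el (hl g hg).1).trans
      (Nat.mod_eq_of_lt (hl g hg).1).symm)]
    exact (hl g hg).2⟩) x (hL x hx)

/-- A homomorphism from the model, checked on the generators. -/
def mkHom {H : Type*} [Group H] (f : T → H) (h1 : f 1 = 1)
    (h : ∀ x, f (pp 0 * x) = f (pp 0) * f x ∧ f (pp 4 * x) = f (pp 4) * f x ∧
      f (a * x) = f a * f x ∧ f (b * x) = f b * f x) : T →* H :=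
  MonoidHom.mk' f fun g =>
    gen (H := { carrier := {g | ∀ x, f (g * x) = f g * f x}
                one_mem' := fun x => by rw [one_mul, h1, one_mul]
                mul_mem' := fun {u v} hu hv x => by rw [mul_assoc, hu, hu, hv, mul_assoc]
                inv_mem' := fun {u} hu x => by
                  have k := hu u⁻¹
                  rw [mul_inv_cancel, h1] at k
                  rw [eq_inv_of_mul_eq_one_right k.symm, eq_inv_mul_iff_mul_eq, ← hu,
                    mul_inv_cancel_left] })
      (fun x => (h x).1) (fun x => (h x).2.1) (fun x => (h x).2.2.1) (fun x => (h x).2.2.2) g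

theorem mkHom_apply {H : Type*} [Group H] (f : T → H) (h1 h) (x : T) : mkHom f h1 h x = f x := rfl

end Cfsg.Lib.S12
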